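import Mathlib

/-!
# A ramified point with separable residue extension has separable residue field
-/

universe u

open IsLocalRing TensorProduct

namespace Groth.Agent.TameRam

variable {k A B : Type u} [Field k] [CommRing A] [CommRing B] [IsLocalRing A] [IsLocalRing B]
  [Algebra k A] [Algebra k B] [Algebra A B] [IsScalarTower k A B] [IsLocalHom (algebraMap A B)]

/-- If the differentials of `B` are cyclic and the residue field is inseparable over `k`, then a
local map with separable residue extension is unramified. -/
theorem formallyUnramified_of_not_isSeparable [Algebra.EssFiniteType k B]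
    [Algebra.IsSeparable (ResidueField A) (ResidueField B)]
    {ω : Ω[B⁄k]} (hω : Submodule.span B {ω} = ⊤)
    (hns : ¬ Algebra.IsSeparable k (ResidueField B)) : Algebra.FormallyUnramified A B := by
  haveI : Algebra.FormallyUnramified (ResidueField A) (ResidueField B) := .of_isSeparable _ _
  haveI : Algebra.EssFiniteType k (ResidueField B) := .comp k B _
  let π := KaehlerDifferential.map k k B (ResidueField B)
  obtain ⟨a, ha⟩ : ∃ a : A, π (KaehlerDifferential.D k B (algebraMap A B a)) ≠ 0 := by
    by_contra h0
    push Not at h0
    refine hns ?_
    haveI : Algebra.FormallyUnramified k (ResidueField B) := by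
      constructor
      refine subsingleton_of_forall_eq 0 fun z => ?_
      obtain ⟨y, rfl⟩ := (KaehlerDifferential.exact_mapBaseChange_map k (ResidueField A) (ResidueField B) z).1
        (Subsingleton.elim _ _)
      induction y using TensorProduct.induction_on with
      | zero => rw [map_zero]
      | add u v hu hv => rw [map_add, hu, hv, add_zero]
      | tmul b w =>
        rw [KaehlerDifferential.mapBaseChange_tmul]
        suffices h1 : KaehlerDifferential.map k k (ResidueField A) (ResidueField B) w = 0 by
          rw [h1, smul_zero]
        have hw : w ∈ Submodule.span (ResidueField A) (Set.range (KaehlerDifferential.D k (ResidueField A))) := by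
          rw [KaehlerDifferential.span_range_derivation]; trivial
        induction hw using Submodule.span_induction with
        | zero => rw [map_zero]
        | add u v _ _ hu hv => rw [map_add, hu, hv, add_zero]
        | smul r u _ hu => rw [map_smul, hu, smul_zero]
        | mem u hu =>
          obtain ⟨c, rfl⟩ := hu
          obtain ⟨a, rfl⟩ := residue_surjective c
          rw [KaehlerDifferential.map_D]
          refine Eq.trans ?_ (h0 a)
          rw [KaehlerDifferential.map_D]
          rfl
    exact Algebra.FormallyUnramified.isSeparable k (ResidueField B)
  obtain ⟨b, hb⟩ := Submodule.mem_span_singleton.1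
    (show KaehlerDifferential.D k B (algebraMap A B a) ∈ Submodule.span B {ω} by rw [hω]; trivial)
  have hbu : IsUnit b := by
    by_contra hc
    refine ha ?_
    rw [← hb, map_smul, ← algebraMap_smul (ResidueField B) b (π ω)]
    have h1 : algebraMap B (ResidueField B) b = 0 := (residue_eq_zero_iff b).2 hc
    rw [h1, zero_smul]
  have h1 : KaehlerDifferential.map k A B B ω = 0 := by
    have h2 := congrArg (KaehlerDifferential.map k A B B) hb
    rw [map_smul, KaehlerDifferential.map_D, Algebra.algebraMap_self, RingHom.id_apply,
      Derivation.map_algebraMap] at h2
    exact (hbu.smul_eq_zero).1 h2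
  constructor
  refine subsingleton_of_forall_eq 0 fun z => ?_
  obtain ⟨y, rfl⟩ := KaehlerDifferential.map_surjective k A B z
  obtain ⟨c, rfl⟩ := Submodule.mem_span_singleton.1 (show y ∈ Submodule.span B {ω} by rw [hω]; trivial)
  rw [map_smul, h1, smul_zero]

/-- A ramified point with separable residue extension has separable residue field. -/
theorem isSeparable_residue_of_map_eq_pow [Algebra.EssFiniteType k B] [IsNoetherianRing B]
    [Algebra.IsSeparable (ResidueField A) (ResidueField B)]
    {ω : Ω[B⁄k]} (hω : Submodule.span B {ω} = ⊤)
    (hm : maximalIdeal B ≠ ⊥) {e : ℕ}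
    (he : (maximalIdeal A).map (algebraMap A B) = maximalIdeal B ^ e) (h2 : 2 ≤ e) :
    Algebra.IsSeparable k (ResidueField B) := by
  by_contra hns
  haveI := formallyUnramified_of_not_isSeparable (A := A) hω hns
  haveI : Algebra.EssFiniteType A B := .of_comp k A B
  rw [Algebra.FormallyUnramified.map_maximalIdeal] at he
  refine hm (Submodule.eq_bot_of_le_smul_of_le_jacobson_bot (maximalIdeal B) _ (IsNoetherian.noetherian _) ?_
    (IsLocalRing.maximalIdeal_le_jacobson _))
  rw [smul_eq_mul, ← sq]
  exact he.le.trans (Ideal.pow_le_pow_right h2)

end Groth.Agent.TameRam
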